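import Groth.Agent.S1695
import Groth.Agent.BlowUpLib.Glue
import Groth.Agent.BlowUpX.Basic

/-!
# The chart of a blowing up where a given element of the centre generates
-/

set_option autoImplicit false
set_option linter.style.haveILetI false
set_option backward.isDefEq.respectTransparency false
set_option backward.isDefEq.respectTransparency.types false

universe u

open CategoryTheory Limits AlgebraicGeometry

namespace Groth.Agent.BlowComp17

variable {X X' : Scheme.{u}}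

theorem exists_pow_mul_eq {A : Type u} [CommRing A] (I : Ideal A) {a : A} (ha : a ∈ I)
    {q : Localization.Away a} (hq : q ∈ BlowUp.affineAlgebra A I a) :
    ∃ (m : ℕ) (x : A), x ∈ I ^ m ∧
      algebraMap A (Localization.Away a) a ^ m * q = algebraMap A (Localization.Away a) x := by
  change q ∈ Algebra.adjoin _ _ at hq
  induction hq using Algebra.adjoin_induction with
  | mem q hq =>
    obtain ⟨x, hx, rfl⟩ := hq
    refine ⟨1, x, by rwa [pow_one], ?_⟩
    rw [pow_one, mul_comm]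
    exact IsLocalization.mk'_spec (Localization.Away a) x ⟨a, Submonoid.mem_powers a⟩
  | algebraMap r => exact ⟨0, r, by simp, by rw [pow_zero, one_mul]⟩
  | add p q _ _ hp hq =>
    obtain ⟨m, x, hx, hxe⟩ := hp
    obtain ⟨n, y, hy, hye⟩ := hq
    refine ⟨m + n, a ^ n * x + a ^ m * y, Ideal.add_mem _ ?_ ?_, ?_⟩
    · rw [add_comm, pow_add]; exact Ideal.mul_mem_mul (Ideal.pow_mem_pow ha n) hx
    · rw [pow_add]; exact Ideal.mul_mem_mul (Ideal.pow_mem_pow ha m) hy
    · rw [map_add, map_mul, map_mul, map_pow, map_pow, ← hxe, ← hye]; ring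
  | mul p q _ _ hp hq =>
    obtain ⟨m, x, hx, hxe⟩ := hp
    obtain ⟨n, y, hy, hye⟩ := hq
    refine ⟨m + n, x * y, by rw [pow_add]; exact Ideal.mul_mem_mul hx hy, ?_⟩
    rw [map_mul, ← hxe, ← hye]; ring

set_option maxHeartbeats 1000000 in
/-- Near every point the blowing up has an affine chart `W` on which an element `a` of the centre
generates, whose sections are fractions `x / a ^ m`, and which contains every affine open on which
`a` generates. -/
theorem exists_chart {I : X.IdealSheafData} {b : X' ⟶ X} (hb : BlowUp.IsBlowUp b I)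
    (V : X.affineOpens) (x' : X') (hx' : b x' ∈ V.1) :
    ∃ (W : X'.affineOpens) (e : W.1 ≤ b ⁻¹ᵁ V.1) (a : Γ(X, V.1)), x' ∈ W.1 ∧ a ∈ I.ideal V ∧
      (I.comap b).ideal W = Ideal.span {(b.appLE V.1 W.1 e).hom a} ∧
      (∀ g : Γ(X', W.1), ∃ (m : ℕ) (x : Γ(X, V.1)), x ∈ I.ideal V ^ m ∧
        (b.appLE V.1 W.1 e).hom a ^ m * g = (b.appLE V.1 W.1 e).hom x) ∧
      ∀ (D : X'.affineOpens) (eD : D.1 ≤ b ⁻¹ᵁ V.1),
        (I.comap b).ideal D = Ideal.span {(b.appLE V.1 D.1 eD).hom a} → D.1 ≤ W.1 := by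
  have hP := IsPullback.of_hasPullback V.2.fromSpec b
  have hbP := BlowUpLib.isBlowUp_of_isPullback hP hb
  rw [BlowUpLib.comap_fromSpec] at hbP
  obtain ⟨p, hp⟩ : b x' ∈ Set.range V.2.fromSpec := by rw [V.2.range_fromSpec]; exact hx'
  obtain ⟨z, -, hz⟩ := Scheme.exists_preimage_of_isPullback hP p x' hp
  obtain ⟨a, ha, W₀, e₀, hzW, he₀⟩ := S1695.result Γ(X, V.1) (I.ideal V) _ hbP z
  let α := algebraMap Γ(X, V.1) (BlowUp.affineAlgebra Γ(X, V.1) (I.ideal V) a)
  let j : Spec (CommRingCat.of (BlowUp.affineAlgebra Γ(X, V.1) (I.ideal V) a)) ⟶ X' :=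
    e₀.inv ≫ W₀.ι ≫ pullback.snd V.2.fromSpec b
  have hj : j ≫ b = Spec.map (CommRingCat.ofHom α) ≫ V.2.fromSpec := by
    have he : W₀.ι ≫ pullback.fst V.2.fromSpec b = e₀.hom ≫ Spec.map (CommRingCat.ofHom α) :=
      he₀.symm
    simp only [j, Category.assoc]
    rw [← pullback.condition, reassoc_of% he, Iso.inv_hom_id_assoc]
  haveI : IsOpenImmersion j := inferInstance
  have hzj : x' ∈ j.opensRange := by
    refine ⟨e₀.hom ⟨z, hzW⟩, ?_⟩
    show j (e₀.hom ⟨z, hzW⟩) = x'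
    rw [← Scheme.Hom.comp_apply]
    simp only [j, Iso.hom_inv_id_assoc]
    exact hz
  let W : X'.affineOpens := ⟨j.opensRange, isAffineOpen_opensRange j⟩
  have e : W.1 ≤ b ⁻¹ᵁ V.1 := by
    rintro _ ⟨y, rfl⟩
    show b (j y) ∈ V.1
    rw [← Scheme.Hom.comp_apply, hj, Scheme.Hom.comp_apply]
    exact V.2.range_fromSpec.le ⟨_, rfl⟩
  have eT : (⊤ : (Spec (CommRingCat.of (BlowUp.affineAlgebra Γ(X, V.1) (I.ideal V) a))).Opens) ≤
      j ⁻¹ᵁ W.1 := fun y _ => ⟨y, rfl⟩
  let ψ : Γ(X', W.1) ⟶ CommRingCat.of (BlowUp.affineAlgebra Γ(X, V.1) (I.ideal V) a) :=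
    j.appLE W.1 ⊤ eT ≫ (Scheme.ΓSpecIso _).hom
  haveI : IsIso (j.appLE W.1 ⊤ eT) := by
    rw [Scheme.Hom.appLE]
    haveI : IsIso (j.app W.1) := j.isIso_app _ le_rfl
    haveI : IsIso (homOfLE eT).op := by
      haveI : IsIso (homOfLE eT) := ⟨homOfLE (by simp), Subsingleton.elim _ _, Subsingleton.elim _ _⟩
      infer_instance
    infer_instance
  haveI : IsIso ψ := inferInstance
  have hbij := ConcreteCategory.bijective_of_isIso ψ
  have hψ : b.appLE V.1 W.1 e ≫ ψ = CommRingCat.ofHom α := by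
    apply Spec.map_injective
    rw [← cancel_mono V.2.fromSpec, Spec.map_comp, Spec.map_comp, Category.assoc, Category.assoc,
      IsAffineOpen.SpecMap_appLE_fromSpec b V.2 W.2 e, ← hj, ← Category.assoc (Spec.map (j.appLE _ _ eT)),
      IsAffineOpen.SpecMap_appLE_fromSpec j W.2 (isAffineOpen_top _) eT, Category.assoc,
      IsAffineOpen.fromSpec_top, Scheme.isoSpec_Spec_inv, ← Category.assoc, ← Spec.map_comp,
      Iso.inv_hom_id, Spec.map_id, Category.id_comp]
  have hψ' : ∀ r, ψ.hom ((b.appLE V.1 W.1 e).hom r) = α r := fun r => by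
    change (b.appLE V.1 W.1 e ≫ ψ).hom r = α r
    rw [hψ]; rfl
  refine ⟨W, e, a, hzj, ha, ?_, fun g => ?_, fun D eD hD => ?_⟩
  · rw [ModPairLib.ideal_comap I b V W e]
    refine le_antisymm (Ideal.map_le_iff_le_comap.mpr fun x hx => ?_)
      ((Ideal.span_singleton_le_iff_mem _).mpr (Ideal.mem_map_of_mem _ ha))
    obtain ⟨f, hf⟩ := hbij.2 (BlowUpLib.frac (I.ideal V) ⟨x, hx⟩ ⟨a, ha⟩)
    refine Ideal.mem_span_singleton'.mpr ⟨f, hbij.1 ?_⟩
    rw [map_mul, hψ', hψ', hf]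
    exact BlowUpLib.frac_mul (I.ideal V) ⟨x, hx⟩ ⟨a, ha⟩
  · obtain ⟨m, x, hx, hxe⟩ := exists_pow_mul_eq (I.ideal V) ha (ψ.hom g).2
    refine ⟨m, x, hx, hbij.1 ?_⟩
    refine (map_mul ψ.hom _ _).trans ?_
    refine Eq.trans ?_ (hψ' x).symm
    refine (congrArg (fun t => t * ψ.hom g) ((map_pow ψ.hom _ m).trans (congrArg (· ^ m) (hψ' a)))).trans ?_
    exact Subtype.ext ((Subalgebra.coe_mul _ _ _).trans
      ((congrArg (fun t => t * (ψ.hom g).1) (Subalgebra.coe_pow _ _ m)).trans hxe))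
  · set φ := (b.appLE V.1 D.1 eD).hom
    have ht0 := ModPairLib.generator_mem_nonZeroDivisors hb.1 hD
    obtain ⟨ψ', hψ'D⟩ := BlowUpLib.exists_hom_affineAlgebra (I.ideal V) ⟨a, ha⟩ φ ht0
      (by rw [← ModPairLib.ideal_comap I b V D eD, hD])
    have h1 : (Spec.map (CommRingCat.ofHom ψ') ≫ j) ≫ b = D.2.fromSpec ≫ b := by
      rw [Category.assoc, hj, ← Category.assoc, ← Spec.map_comp, ← CommRingCat.ofHom_comp, hψ'D,
        ← IsAffineOpen.SpecMap_appLE_fromSpec b V.2 D.2 eD]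
      rfl
    have h2 : Spec.map (CommRingCat.ofHom ψ') ≫ j = D.2.fromSpec := by
      refine BlowUpLib.isBlowUp_hom_ext hb h1 ?_
      rw [Scheme.IdealSheafData.comap_comp]
      exact BlowUpLib.isEffCartier_comap_flat _ hb.1
    intro y hy
    obtain ⟨q, rfl⟩ := D.2.range_fromSpec.ge hy
    exact ⟨Spec.map (CommRingCat.ofHom ψ') q, (Scheme.Hom.comp_apply _ _ _).symm.trans (congrArg (fun k => k q) h2)⟩

end Groth.Agent.BlowComp17
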