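import Groth.Agent.BlowComp17.Chart
import Groth.Agent.BlowSep17.Basic
import Groth.Agent.MorLib.IdealFG2
import Groth.Agent.S1683
import Groth.Agent.S8907

/-!
# A composite of two blowing ups of finite type is a blowing up
-/

set_option autoImplicit false
set_option linter.style.haveILetI false
set_option backward.isDefEq.respectTransparency false
set_option backward.isDefEq.respectTransparency.types false

universe u

open CategoryTheory Limits AlgebraicGeometry TopologicalSpace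

namespace Groth.Agent.BlowComp17

variable {X X' : Scheme.{u}}

/-- A section lies in a pushforward ideal as soon as it does so locally upstairs. -/
theorem mem_map_of_local (L : X'.IdealSheafData) (b : X' ⟶ X) [QuasiCompact b] (V : X.affineOpens)
    (s : Γ(X, V.1))
    (h : ∀ x ∈ b ⁻¹ᵁ V.1, ∃ (W : X'.affineOpens) (e : W.1 ≤ b ⁻¹ᵁ V.1), x ∈ W.1 ∧
      (b.appLE V.1 W.1 e).hom s ∈ L.ideal W) :
    s ∈ (L.map b).ideal V := by
  rw [Scheme.IdealSheafData.map, Scheme.Hom.ker_apply, RingHom.mem_ker]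
  refine L.subscheme.IsSheaf.section_ext fun y hy => ?_
  obtain ⟨W, e, hyW, hs⟩ := h (L.subschemeι y) hy
  refine ⟨L.subschemeι ⁻¹ᵁ W.1, fun z hz => e hz, hyW, ?_⟩
  have h1 : (L.subschemeι.app W.1).hom ((b.appLE V.1 W.1 e).hom s) = 0 := by
    rw [← RingHom.mem_ker, ← Scheme.Hom.ker_apply, Scheme.IdealSheafData.ker_subschemeι]
    exact hs
  rw [map_zero]
  refine Eq.trans ?_ h1
  change (((L.subschemeι ≫ b).app V.1) ≫ L.subscheme.presheaf.map _).hom s =
    (b.appLE V.1 W.1 e ≫ L.subschemeι.app W.1).hom s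
  congr 2
  rw [Scheme.Hom.app_eq_appLE, Scheme.Hom.appLE_map, Scheme.Hom.app_eq_appLE, Scheme.Hom.appLE_comp_appLE]

theorem isEffCartier_pow {E : X.IdealSheafData} (hE : BlowUp.IsEffCartierIdeal E) :
    ∀ n : ℕ, BlowUp.IsEffCartierIdeal (E ^ n)
  | 0 => by rw [pow_zero, Scheme.IdealSheafData.one_eq_top]; exact BlowUpX.isEffCartier_top
  | n + 1 => by rw [pow_succ]; exact ModPairLib.isEffCartier_mul (isEffCartier_pow hE n) hE

set_option maxHeartbeats 1000000 in
/-- On one chart, a multiple of a section of `J` by a large power of the generator comes from the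
pushforward ideal. -/
theorem exists_mem_map {I : X.IdealSheafData} {b : X' ⟶ X} (hb : BlowUp.IsBlowUp b I) [QuasiCompact b]
    (J : X'.IdealSheafData) (V : X.affineOpens) (W : X'.affineOpens) (e : W.1 ≤ b ⁻¹ᵁ V.1) (a : Γ(X, V.1))
    (ha : a ∈ I.ideal V)
    (hP : ∀ g : Γ(X', W.1), ∃ (m : ℕ) (x : Γ(X, V.1)), x ∈ I.ideal V ^ m ∧
        (b.appLE V.1 W.1 e).hom a ^ m * g = (b.appLE V.1 W.1 e).hom x)
    (hQ : ∀ (D : X'.affineOpens) (eD : D.1 ≤ b ⁻¹ᵁ V.1),
        (I.comap b).ideal D = Ideal.span {(b.appLE V.1 D.1 eD).hom a} → D.1 ≤ W.1)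
    (g : Γ(X', W.1)) (hg : g ∈ J.ideal W) :
    ∃ N₀ : ℕ, ∀ N ≥ N₀, ∃ y ∈ (((I.comap b) ^ N * J).map b).ideal V,
      (b.appLE V.1 W.1 e).hom a ^ N * g = (b.appLE V.1 W.1 e).hom y := by
  obtain ⟨m, x, hx, hxe⟩ := hP g
  have key : ∀ p : (b ⁻¹ᵁ V.1 : X'.Opens), ∃ (Wl : X'.affineOpens) (el : Wl.1 ≤ b ⁻¹ᵁ V.1) (k₀ : ℕ),
      p.1 ∈ Wl.1 ∧ ∀ k ≥ k₀, (b.appLE V.1 Wl.1 el).hom (a ^ k * x) ∈
        ((I.comap b) ^ (k + m) * J).ideal Wl := by
    intro p
    obtain ⟨Wl, el, hpW, c, hc, hWl⟩ := ModPairLib.exists_chart_blowUp hb.1 p.1 V p.2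
    set φl := (b.appLE V.1 Wl.1 el).hom with hφl
    set t := φl c
    obtain ⟨u, hu⟩ : ∃ u, u * t = φl a := Ideal.mem_span_singleton'.mp
      (hWl ▸ (ModPairLib.ideal_comap I b V Wl el).ge (Ideal.mem_map_of_mem φl ha))
    obtain ⟨w, hw⟩ : ∃ w, w * t ^ m = φl x := by
      refine Ideal.mem_span_singleton'.mp ?_
      rw [← Ideal.span_singleton_pow, ← hWl, ModPairLib.ideal_comap I b V Wl el, ← Ideal.map_pow]
      exact Ideal.mem_map_of_mem φl hx
    let D : X'.affineOpens := ⟨X'.basicOpen u, Wl.2.basicOpen u⟩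
    have hDWl : D.1 ≤ Wl.1 := X'.basicOpen_le u
    have eD : D.1 ≤ b ⁻¹ᵁ V.1 := hDWl.trans el
    set ρ := (X'.presheaf.map (homOfLE hDWl).op).hom
    have hρ : ∀ r, (b.appLE V.1 D.1 eD).hom r = ρ (φl r) := fun r => by
      rw [← Scheme.Hom.appLE_map b el (homOfLE hDWl).op]; rfl
    have huD : IsUnit (ρ u) := RingedSpace.isUnit_res_basicOpen X'.toRingedSpace u
    have hD : (I.comap b).ideal D = Ideal.span {(b.appLE V.1 D.1 eD).hom a} := by
      rw [← (I.comap b).map_ideal (U := D) (V := Wl) hDWl, hWl, Ideal.map_span, Set.image_singleton,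
        hρ, ← hu, map_mul, Ideal.span_singleton_mul_left_unit huD]
      rfl
    have hDW : D.1 ≤ W.1 := hQ D eD hD
    set ρ' := (X'.presheaf.map (homOfLE hDW).op).hom
    have hρ' : ∀ r, (b.appLE V.1 D.1 eD).hom r = ρ' ((b.appLE V.1 W.1 e).hom r) := fun r => by
      rw [← Scheme.Hom.appLE_map b e (homOfLE hDW).op]; rfl
    have ht0 : ρ t ∈ nonZeroDivisors Γ(X', D.1) := by
      refine ModPairLib.generator_mem_nonZeroDivisors hb.1 (W := D) ?_
      rw [← (I.comap b).map_ideal (U := D) (V := Wl) hDWl, hWl, Ideal.map_span, Set.image_singleton]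
      rfl
    have hwg : ρ w = ρ u ^ m * ρ' g := by
      have h1 : ρ (φl x) = ρ w * ρ t ^ m := by rw [← hw, map_mul, map_pow]
      have h2 : ρ' ((b.appLE V.1 W.1 e).hom a) = ρ u * ρ t := by rw [← hρ', hρ, ← hu, map_mul]
      have h3 : ρ (φl x) = (ρ u * ρ t) ^ m * ρ' g := by
        rw [← hρ, hρ', ← hxe, map_mul, map_pow, h2]
      have h4 : (ρ w - ρ u ^ m * ρ' g) * ρ t ^ m = 0 := by
        rw [sub_mul, ← h1, h3, mul_pow]; ring
      exact sub_eq_zero.mp (mem_nonZeroDivisors_iff_right.mp (pow_mem ht0 m) _ h4)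
    have hwJ : ρ w ∈ (J.ideal Wl).map ρ := by
      have : ρ w ∈ J.ideal D := by
        rw [hwg]
        refine Ideal.mul_mem_left _ _ ?_
        rw [← J.map_ideal (U := D) (V := W) hDW]
        exact Ideal.mem_map_of_mem ρ' hg
      rwa [← J.map_ideal (U := D) (V := Wl) hDWl] at this
    haveI := Wl.2.isLocalization_basicOpen u
    obtain ⟨_, ⟨k₀, rfl⟩, hk₀⟩ :=
      (IsLocalization.algebraMap_mem_map_algebraMap_iff (Submonoid.powers u) Γ(X', X'.basicOpen u) _ _).mp
        (show algebraMap Γ(X', Wl.1) Γ(X', X'.basicOpen u) w ∈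
          (J.ideal Wl).map (algebraMap Γ(X', Wl.1) Γ(X', X'.basicOpen u)) from hwJ)
    refine ⟨Wl, el, k₀, hpW, fun k hk => ?_⟩
    rw [Scheme.IdealSheafData.ideal_mul, Pi.mul_apply, Scheme.IdealSheafData.ideal_pow, Pi.pow_apply,
      hWl, Ideal.span_singleton_pow, Ideal.mem_span_singleton_mul]
    refine ⟨u ^ k * w, ?_, ?_⟩
    · obtain ⟨l, rfl⟩ := Nat.exists_eq_add_of_le hk
      rw [pow_add, mul_comm (u ^ k₀), mul_assoc]
      exact Ideal.mul_mem_left _ _ hk₀
    · rw [map_mul, map_pow]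
      show t ^ (k + m) * (u ^ k * w) = φl a ^ k * φl x
      rw [← hu, ← hw]; ring
  choose Wl el k₀ hmem hk₀ using key
  have hc : IsCompact ((b ⁻¹ᵁ V.1 : X'.Opens) : Set X') :=
    QuasiCompact.isCompact_preimage (f := b) _ V.1.isOpen V.2.isCompact
  obtain ⟨s, hs⟩ := hc.elim_finite_subcover (fun p => ((Wl p).1 : Set X')) (fun p => (Wl p).1.isOpen)
    (fun p hp => Set.mem_iUnion.mpr ⟨⟨p, hp⟩, hmem ⟨p, hp⟩⟩)
  refine ⟨s.sup k₀ + m, fun N hN => ⟨a ^ (N - m) * x, ?_, ?_⟩⟩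
  · refine mem_map_of_local _ b V _ fun p hp => ?_
    obtain ⟨q, hq, hpq⟩ := Set.mem_iUnion₂.mp (hs hp)
    refine ⟨Wl q, el q, hpq, ?_⟩
    have := hk₀ q (N - m) (by have := Finset.le_sup (f := k₀) hq; omega)
    rwa [show N - m + m = N by omega] at this
  · rw [map_mul, map_pow, ← hxe, ← mul_assoc, ← pow_add, show N - m + m = N by omega]

/-- For a finite type ideal `J` on a blowing up, a twist of `J` by a high power of the exceptional
ideal comes from an ideal of finite type on the base. -/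
theorem exists_comap_eq [CompactSpace X] [QuasiSeparatedSpace X] {I : X.IdealSheafData} {b : X' ⟶ X}
    (hI : BlowUp.IsFiniteTypeIdeal I) (hb : BlowUp.IsBlowUp b I)
    (J : X'.IdealSheafData) (hJ : BlowUp.IsFiniteTypeIdeal J) :
    ∃ (N : ℕ) (K : X.IdealSheafData), BlowUp.IsFiniteTypeIdeal K ∧ K.comap b = (I.comap b) ^ N * J := by
  classical
  haveI := BlowUpLib.isProper_of_isBlowUp I hb hI
  haveI : CompactSpace X' := QuasiCompact.compactSpace_of_compactSpace b
  have hch : ∀ x : X', ∃ (V : X.affineOpens) (W : X'.affineOpens) (e : W.1 ≤ b ⁻¹ᵁ V.1) (a : Γ(X, V.1)),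
      x ∈ W.1 ∧ a ∈ I.ideal V ∧ (I.comap b).ideal W = Ideal.span {(b.appLE V.1 W.1 e).hom a} ∧
      ∀ g ∈ J.ideal W, ∃ N₀ : ℕ, ∀ N ≥ N₀, ∃ y ∈ (((I.comap b) ^ N * J).map b).ideal V,
        (b.appLE V.1 W.1 e).hom a ^ N * g = (b.appLE V.1 W.1 e).hom y := by
    intro x
    obtain ⟨V, hV, hxV, -⟩ := exists_isAffineOpen_mem_and_subset (x := b x) (U := ⊤) trivial
    obtain ⟨W, e, a, hxW, ha, hW, hP, hQ⟩ := exists_chart hb ⟨V, hV⟩ x hxV
    exact ⟨⟨V, hV⟩, W, e, a, hxW, ha, hW, fun g hg => exists_mem_map hb J _ W e a ha hP hQ g hg⟩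
  choose V W e a hxW _ hW hlift using hch
  obtain ⟨s, hs⟩ := (isCompact_univ (X := X')).elim_finite_subcover (fun x => ((W x).1 : Set X'))
    (fun x => (W x).1.isOpen) (fun x _ => Set.mem_iUnion.mpr ⟨x, hxW x⟩)
  choose gs hgs using fun x => hJ (W x)
  have hgen : ∀ x, ∀ g ∈ gs x, g ∈ J.ideal (W x) := fun x g hg => hgs x ▸ Ideal.subset_span hg
  let T := s.sigma gs
  choose N₀ hN₀ using fun t : T => hlift t.1.1 t.1.2 (hgen _ _ (Finset.mem_sigma.mp t.2).2)
  let N := Finset.univ.sup N₀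
  choose y hy hye using fun t : T => hN₀ t N (Finset.le_sup (Finset.mem_univ t))
  choose K hK using fun t : T => MorLib.IdealFG.exists_sub_mem _ (V t.1.1) (hy t)
  obtain ⟨M, hM⟩ := Finset.exists_le (α := MorLib.IdealFG.Sub (((I.comap b) ^ N * J).map b))
    (Finset.univ.image K)
  refine ⟨N, M.1, M.2.2, le_antisymm ((Scheme.IdealSheafData.le_map_iff_comap_le).mp M.2.1) ?_⟩
  refine Scheme.IdealSheafData.le_of_iSup_eq_top (fun x : s => W x.1) (top_unique fun p _ => ?_) fun x => ?_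
  · obtain ⟨q, hq, hpq⟩ := Set.mem_iUnion₂.mp (hs (Set.mem_univ p))
    exact Opens.mem_iSup.2 ⟨⟨q, hq⟩, hpq⟩
  · rw [Scheme.IdealSheafData.ideal_mul, Pi.mul_apply, Scheme.IdealSheafData.ideal_pow, Pi.pow_apply,
      hW, Ideal.span_singleton_pow, ← hgs, Ideal.span_mul_span', Set.singleton_mul, Ideal.span_le]
    rintro _ ⟨g, hg, rfl⟩
    let t : T := ⟨⟨x.1, g⟩, Finset.mem_sigma.mpr ⟨x.2, hg⟩⟩
    show (b.appLE (V x.1).1 (W x.1).1 (e x.1)).hom (a x.1) ^ N * g ∈ (M.1.comap b).ideal (W x.1)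
    rw [hye t, ModPairLib.ideal_comap M.1 b (V x.1) (W x.1) (e x.1)]
    refine Ideal.mem_map_of_mem _ ?_
    exact Scheme.IdealSheafData.ideal_mono
      ((hM (K t) (Finset.mem_image_of_mem K (Finset.mem_univ t))) : (K t).1 ≤ M.1) _ (hK t)

theorem support_comap_mem (I : X.IdealSheafData) (b : X' ⟶ X) (z : X') :
    z ∈ (I.comap b).support ↔ b z ∈ I.support := BlowSep17.mem_support_comap I b z

/-- A composite of two blowing ups is a blowing up in an ideal below the second centre. -/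
theorem isBlowUp_comp' [CompactSpace X] [QuasiSeparatedSpace X] {X'' : Scheme.{u}} {I : X.IdealSheafData}
    (hI : BlowUp.IsFiniteTypeIdeal I) {b : X' ⟶ X} (hb : BlowUp.IsBlowUp b I) {J : X'.IdealSheafData}
    (hJ : BlowUp.IsFiniteTypeIdeal J) {b' : X'' ⟶ X'} (hb' : BlowUp.IsBlowUp b' J) :
    ∃ K : X.IdealSheafData, BlowUp.IsFiniteTypeIdeal K ∧
      (K.support : Set X) = (I.support : Set X) ∪ (fun x' => b x') '' (J.support : Set X') ∧
      BlowUp.IsBlowUp (b' ≫ b) K ∧ K.comap (b' ≫ b) ≤ J.comap b' := by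
  obtain ⟨N, K, hK, hKb⟩ := exists_comap_eq hI hb J hJ
  refine ⟨I * K, fun U => ?_, ?_, S1683.result I K b hb b' ?_, ?_⟩
  · rw [Scheme.IdealSheafData.ideal_mul, Pi.mul_apply]; exact Submodule.FG.mul (hI U) (hK U)
  · have hiso := BlowUpX.isIso_restrict hb
    have hKs : ∀ z : X', b z ∈ K.support ↔ z ∈ ((I.comap b) ^ N * J).support := fun z => by
      rw [← hKb, support_comap_mem]
    rw [Scheme.IdealSheafData.support_mul, Closeds.coe_sup]
    ext x
    by_cases hxI : x ∈ (I.support : Set X)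
    · simp [hxI]
    simp only [Set.mem_union, hxI, false_or]
    constructor
    · intro hxK
      obtain ⟨z, hz⟩ := (b ∣_ I.support.compl).surjective ⟨x, hxI⟩
      have hbz : b z.1 = x := by
        have := congrArg Subtype.val hz
        rwa [morphismRestrict_base_coe] at this
      have h := (hKs z.1).mp (hbz ▸ hxK)
      rw [Scheme.IdealSheafData.support_mul] at h
      refine ⟨z.1, (h.resolve_left fun h1 => ?_), hbz⟩
      rcases eq_or_ne N 0 with rfl | hN
      · rw [pow_zero, Scheme.IdealSheafData.one_eq_top, Scheme.IdealSheafData.support_top] at h1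
        exact h1
      · rw [Scheme.IdealSheafData.support_pow _ _ hN] at h1
        exact hxI (hbz ▸ (support_comap_mem I b z.1).mp h1)
    · rintro ⟨z, hz, rfl⟩
      refine (hKs z).mpr ?_
      rw [Scheme.IdealSheafData.support_mul]
      exact Or.inr hz
  · rw [hKb, mul_comm]
    exact S8907.result J _ (isEffCartier_pow hb.1 N) b' hb'
  · rw [Scheme.IdealSheafData.comap_comp, ModPairLib.ideal_comap_mul, hKb]
    refine Scheme.IdealSheafData.comap_mono b' fun W => ?_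
    rw [Scheme.IdealSheafData.ideal_mul, Scheme.IdealSheafData.ideal_mul, Pi.mul_apply, Pi.mul_apply,
      ← mul_assoc]
    exact Ideal.le_of_dvd (Dvd.intro_left _ rfl)

/-- A composite of two blowing ups in ideals of finite type is a blowing up in an ideal of finite
type, supported where the two centres lie. -/
theorem isBlowUp_comp [CompactSpace X] [QuasiSeparatedSpace X] {X'' : Scheme.{u}} {I : X.IdealSheafData}
    (hI : BlowUp.IsFiniteTypeIdeal I) {b : X' ⟶ X} (hb : BlowUp.IsBlowUp b I) {J : X'.IdealSheafData}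
    (hJ : BlowUp.IsFiniteTypeIdeal J) {b' : X'' ⟶ X'} (hb' : BlowUp.IsBlowUp b' J) :
    ∃ K : X.IdealSheafData, BlowUp.IsFiniteTypeIdeal K ∧
      (K.support : Set X) = (I.support : Set X) ∪ (fun x' => b x') '' (J.support : Set X') ∧
      BlowUp.IsBlowUp (b' ≫ b) K :=
  let ⟨K, h1, h2, h3, _⟩ := isBlowUp_comp' hI hb hJ hb'
  ⟨K, h1, h2, h3⟩

end Groth.Agent.BlowComp17
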